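import Groth.Agent.Lib.OmegaBC.Section
import Groth.Agent.Lib.GrBC.Basic

/-!
The first graded piece of the ideal of a section commutes with every base change.
-/

set_option autoImplicit false
set_option backward.isDefEq.respectTransparency false
set_option linter.all false

universe u

open CategoryTheory CategoryTheory.Limits AlgebraicGeometry Opposite TopologicalSpace IsLocalRing TensorProduct

noncomputable section

namespace GrothLib.OmegaBC

variable {X Y : Scheme.{u}}

theorem isIso_pullback_pullIdeal {Z Z' P P' : Scheme.{u}} (i : Z ⟶ P) [QuasiCompact i]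
    (i' : Z' ⟶ P') [QuasiCompact i'] (r : P ⟶ Z) (r' : P' ⟶ Z') (g : Z' ⟶ Z) (k : P' ⟶ P)
    (H : IsPullback k r' r g) (hi : i ≫ r = 𝟙 _) (hi' : i' ≫ r' = 𝟙 _) (hk : i' ≫ k = g ≫ i) :
    IsIso ((Scheme.Modules.pullback i').map (pullIdeal i i' g k hk)) := by
  haveI : IsImmersion (i ≫ r) := hi ▸ inferInstance
  haveI : IsImmersion i := IsImmersion.of_comp i r
  haveI : IsImmersion (i' ≫ r') := hi' ▸ inferInstance
  haveI : IsImmersion i' := IsImmersion.of_comp i' r'
  let α := pullIdeal i i' g k hk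
  haveI hI : IsIso ((Scheme.Modules.pullback i').map α) := by
    rw [OX.isIso_iff]
    intro z'
    suffices h : IsIso ((ModuleCat.extendScalars (i'.stalkMap z').hom).map
        (toStalk k (ClSub.idealMod i.ker) (i' z') ≫ (OX.stalk (i' z')).map α)) by
      have h2 : IsIso ((ModuleCat.extendScalars (i'.stalkMap z').hom).map ((OX.stalk (i' z')).map α)) := by
        haveI : IsIso (toStalk k (ClSub.idealMod i.ker) (i' z')) := by unfold toStalk; infer_instance
        rw [Functor.map_comp] at h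
        exact IsIso.of_isIso_comp_left ((ModuleCat.extendScalars (i'.stalkMap z').hom).map
          (toStalk k (ClSub.idealMod i.ker) (i' z'))) _
      exact (NatIso.isIso_map_iff (OX.pullStalkIso i' z') α).2 h2
    let x := i'.base z'
    let p := k.base x
    let z := g.base z'
    let γ : Z.presheaf.stalk z ⟶ Z'.presheaf.stalk z' := g.stalkMap z'
    let φ : P.presheaf.stalk p ⟶ P'.presheaf.stalk x := k.stalkMap x
    let π : P'.presheaf.stalk x ⟶ Z'.presheaf.stalk z' := i'.stalkMap z'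
    have hzp : i.base z = p := ((congr($(hk) z')).symm : _)
    obtain ⟨ζ, hζ, -⟩ := exists_stalk_hom (y := p) (Z.fromSpecStalk z ≫ i) (by
      exact (Scheme.Hom.comp_apply _ _ _).trans ((congrArg _ Scheme.fromSpecStalk_closedPoint).trans hzp))
    have hrp : r.base p = z := by
      rw [← hzp, ← Scheme.Hom.comp_apply, hi]; rfl
    obtain ⟨ρ, hρ, -⟩ := exists_stalk_hom (y := z) (P.fromSpecStalk p ≫ r) (by
      exact (Scheme.Hom.comp_apply _ _ _).trans ((congrArg _ Scheme.fromSpecStalk_closedPoint).trans hrp))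
    have hr'x : r'.base x = z' := by
      show r'.base (i'.base z') = z'
      rw [← Scheme.Hom.comp_apply, hi']; rfl
    obtain ⟨ρ', hρ', -⟩ := exists_stalk_hom (y := z') (P'.fromSpecStalk x ≫ r') (by
      exact (Scheme.Hom.comp_apply _ _ _).trans ((congrArg _ Scheme.fromSpecStalk_closedPoint).trans hr'x))
    have hπ : Spec.map π ≫ P'.fromSpecStalk x = Z'.fromSpecStalk z' ≫ i' := Scheme.SpecMap_stalkMap_fromSpecStalk (f := i')
    have hφ : Spec.map φ ≫ P.fromSpecStalk p = P'.fromSpecStalk x ≫ k := Scheme.SpecMap_stalkMap_fromSpecStalk (f := k)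
    have hγ : Spec.map γ ≫ Z.fromSpecStalk z = Z'.fromSpecStalk z' ≫ g := Scheme.SpecMap_stalkMap_fromSpecStalk (f := g)
    have hρζ : ρ ≫ ζ = 𝟙 _ := stalk_hom_ext (by
      rw [Spec.map_comp, Spec.map_id, Category.id_comp, Category.assoc, hρ, ← Category.assoc, hζ, Category.assoc, hi,
        Category.comp_id])
    have hπφ : φ ≫ π = ζ ≫ γ := stalk_hom_ext (by
      rw [Spec.map_comp, Spec.map_comp, Category.assoc, hφ, ← Category.assoc, hπ, Category.assoc, hk, Category.assoc,
        hζ, ← Category.assoc (Spec.map γ), hγ, Category.assoc])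
    have hπρ' : ρ' ≫ π = 𝟙 _ := stalk_hom_ext (by
      rw [Spec.map_comp, Spec.map_id, Category.id_comp, Category.assoc, hρ', ← Category.assoc, hπ, Category.assoc, hi',
        Category.comp_id])
    have hρφ : ρ ≫ φ = γ ≫ ρ' := stalk_hom_ext (by
      rw [Spec.map_comp, Spec.map_comp, Category.assoc, hρ, ← Category.assoc, hφ, Category.assoc, Category.assoc,
        hγ, ← Category.assoc (Spec.map ρ'), hρ', Category.assoc, H.w])
    have hjr : LinearMap.range (sval i.ker p) = RingHom.ker ζ.hom := range_sval_ker i z p hzp ζ hζ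
    have hj'r' : LinearMap.range (sval i'.ker x) = RingHom.ker π.hom := range_sval_ker i' z' x rfl π hπ
    have hmap : RingHom.ker π.hom = Ideal.map φ.hom (RingHom.ker ζ.hom) := by
      refine le_antisymm (fun b hb => ?_) ?_
      · let J := Ideal.map φ.hom (RingHom.ker ζ.hom)
        let mk : P'.presheaf.stalk x ⟶ CommRingCat.of (P'.presheaf.stalk x ⧸ J) := CommRingCat.ofHom (Ideal.Quotient.mk J)
        have hφmk : φ ≫ π ≫ ρ' ≫ mk = φ ≫ mk := by
          rw [← Category.assoc, hπφ, Category.assoc, ← Category.assoc γ, ← hρφ, Category.assoc]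
          ext c
          show Ideal.Quotient.mk J (φ (ρ (ζ c))) = Ideal.Quotient.mk J (φ c)
          rw [Ideal.Quotient.eq, ← map_sub]
          refine Ideal.mem_map_of_mem _ ?_
          rw [RingHom.mem_ker, map_sub, sub_eq_zero]
          exact ConcreteCategory.congr_hom hρζ (ζ c)
        have h2 : π ≫ ρ' ≫ mk = mk := stalk_hom_ext (H.hom_ext (by
          rw [Category.assoc, Category.assoc, ← hφ, ← Category.assoc, ← Category.assoc (Spec.map mk), ← Spec.map_comp,
            ← Spec.map_comp, hφmk]) (by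
          rw [Category.assoc, Category.assoc, ← hρ', ← Category.assoc, ← Category.assoc (Spec.map mk), ← Spec.map_comp,
            ← Spec.map_comp, ← Category.assoc ρ', hπρ', Category.id_comp]))
        have h3 := ConcreteCategory.congr_hom h2 b
        rw [← Ideal.Quotient.eq_zero_iff_mem]
        refine h3.symm.trans ?_
        show Ideal.Quotient.mk J (ρ' (π b)) = 0
        rw [show π b = 0 from hb, map_zero, map_zero]
      · rw [Ideal.map_le_iff_le_comap]
        intro c hc
        show (φ ≫ π) c = 0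
        rw [hπφ]
        exact (congrArg γ (show ζ c = 0 from hc)).trans (map_zero _)
    obtain ⟨v, hv, hvv⟩ := exists_unit_pullι k i.ker x
    letI := φ.hom.toAlgebra
    letI := π.hom.toAlgebra
    let T := (toStalk k (ClSub.idealMod i.ker) x ≫ (OX.stalk x).map α).hom
    have hT : ∀ n, sval i'.ker x (T ((1 : P'.presheaf.stalk x) ⊗ₜ[P.presheaf.stalk p] n)) = v * φ (sval i.ker p n) := by
      intro n
      refine Eq.trans ?_ (hvv n)
      show (ouni x).symm (((toStalk k (ClSub.idealMod i.ker) x ≫ (OX.stalk x).map α) ≫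
        (OX.stalk x).map (ClSub.idealModι i'.ker)).hom _) = _
      rw [Category.assoc, ← Functor.map_comp, show α ≫ ClSub.idealModι i'.ker = pullι k i.ker from kernel.lift_ι _ _ _]
    have hb : Function.Bijective (LinearMap.baseChange (Z'.presheaf.stalk z') T) := by
      refine bijective_baseChange ρ.hom ζ.hom γ.hom φ.hom π.hom (fun c => ConcreteCategory.congr_hom hρζ c)
        (fun b => ConcreteCategory.congr_hom hπφ b) (sval i.ker p) (sval_injective _ _) hjr (sval i'.ker x)
        (sval_injective _ _) (by rw [hjr]; exact hj'r'.trans hmap) v hv ?_ T hT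
      intro Q _ _ _ _ f hf1 hf2
      haveI := isLocalRing_trivSqZeroExt (Z'.presheaf.stalk z') Q
      let E := CommRingCat.of (TrivSqZeroExt (Z'.presheaf.stalk z') Q)
      haveI : IsLocalRing E := isLocalRing_trivSqZeroExt (Z'.presheaf.stalk z') Q
      let e : E ⟶ Z'.presheaf.stalk z' :=
        CommRingCat.ofHom (TrivSqZeroExt.fstHom (Z'.presheaf.stalk z') (Z'.presheaf.stalk z') Q).toRingHom
      let inl : Z'.presheaf.stalk z' ⟶ E := CommRingCat.ofHom (TrivSqZeroExt.inlHom (Z'.presheaf.stalk z') Q)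
      let fc : P.presheaf.stalk p ⟶ E := CommRingCat.ofHom f
      have hcomm : (Spec.map fc ≫ P.fromSpecStalk p) ≫ r = (Spec.map inl ≫ Z'.fromSpecStalk z') ≫ g := by
        rw [Category.assoc, ← hρ, ← Category.assoc, ← Spec.map_comp, Category.assoc, ← hγ, ← Category.assoc,
          ← Spec.map_comp, show ρ ≫ fc = γ ≫ inl from CommRingCat.hom_ext (RingHom.ext hf2)]
      let w := H.lift (Spec.map fc ≫ P.fromSpecStalk p) (Spec.map inl ≫ Z'.fromSpecStalk z') hcomm
      have hinle : inl ≫ e = 𝟙 _ := CommRingCat.hom_ext (RingHom.ext fun c => TrivSqZeroExt.fst_inl Q c)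
      have hfe : fc ≫ e = ζ ≫ γ := CommRingCat.hom_ext (RingHom.ext hf1)
      have hew : Spec.map e ≫ w = Z'.fromSpecStalk z' ≫ i' := H.hom_ext (by
        rw [Category.assoc, H.lift_fst, ← Category.assoc, ← Spec.map_comp, hfe, Category.assoc, hk, Spec.map_comp,
          Category.assoc, hζ, ← Category.assoc, hγ, Category.assoc]) (by
        rw [Category.assoc, H.lift_snd, ← Category.assoc, ← Spec.map_comp, hinle, Spec.map_id, Category.id_comp,
          Category.assoc, hi', Category.comp_id])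
      have hwx : w.base (closedPoint E) = x := by
        have hloc : IsLocalHom e.hom := ⟨fun c hc => TrivSqZeroExt.isUnit_iff_isUnit_fst.2 hc⟩
        have hcp : (Spec.map e).base (closedPoint (Z'.presheaf.stalk z')) = closedPoint E :=
          IsLocalRing.comap_closedPoint e.hom
        exact (congrArg w.base hcp).symm.trans ((congr($(hew) (closedPoint (Z'.presheaf.stalk z')))).trans
          (congrArg i'.base Scheme.fromSpecStalk_closedPoint))
      obtain ⟨F, hF, -⟩ := exists_stalk_hom (y := x) w hwx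
      have hF1 : φ ≫ F = fc := stalk_hom_ext (by
        rw [Spec.map_comp, Category.assoc, hφ, ← Category.assoc, hF, H.lift_fst])
      have hF2 : F ≫ e = π := stalk_hom_ext (by
        rw [Spec.map_comp, Category.assoc, hF, hew, hπ])
      exact ⟨F.hom, fun b => ConcreteCategory.congr_hom hF1 b, fun b => ConcreteCategory.congr_hom hF2 b⟩
    rw [ConcreteCategory.isIso_iff_bijective]
    exact hb
  exact hI

end GrothLib.OmegaBC

namespace GrothLib.GrBC

open GrothLib.OmegaBC

/-- The first graded piece of a section commutes with base change. -/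
theorem isIso_grMap_one {X Y X' Y' : Scheme.{u}} (g : X ⟶ Y) (f : Y ⟶ X) [IsClosedImmersion f] (hf : f ≫ g = 𝟙 Y)
    (u : Y' ⟶ Y) (v : X' ⟶ X) (g' : X' ⟶ Y') (hsq : IsPullback v g' g u) (f' : Y' ⟶ X') [QuasiCompact f']
    (hf' : f' ≫ g' = 𝟙 Y') (hf'v : f' ≫ v = u ≫ f)
    (φ : (Scheme.Modules.pullback u).obj (PrinPart.grMod f 1) ⟶ PrinPart.grMod f' 1)
    (hφ : PrinPart.IsGrMap f' f v u 1 φ) : IsIso φ := by
  obtain ⟨θ, hθiso, hθ⟩ : ∃ θ : (Scheme.Modules.pullback v).obj (ClSub.idealMod (f.ker ^ 1)) ⟶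
      ClSub.idealMod (f'.ker ^ 1), IsIso ((Scheme.Modules.pullback f').map θ) ∧
        θ ≫ ClSub.idealModι (f'.ker ^ 1) = pullι v (f.ker ^ 1) := by
    rw [pow_one, pow_one]
    exact ⟨pullIdeal f f' u v hf'v, isIso_pullback_pullIdeal f f' g g' u v hsq hf hf' hf'v, kernel.lift_ι _ _ _⟩
  have hw : u ≫ f = f' ≫ v := hf'v.symm
  let M := ClSub.idealMod (f.ker ^ 1)
  let φ' : (Scheme.Modules.pullback u).obj (PrinPart.grMod f 1) ⟶ PrinPart.grMod f' 1 :=
    (Scheme.Modules.pullbackComp u f).hom.app M ≫ (Scheme.Modules.pullbackCongr hw).hom.app M ≫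
      (Scheme.Modules.pullbackComp f' v).inv.app M ≫ (Scheme.Modules.pullback f').map θ
  have hiso : IsIso φ' := inferInstance
  suffices φ = φ' by rw [this]; exact hiso
  refine ((Scheme.Modules.pullbackPushforwardAdjunction u).homEquiv _ _).injective
    (PPGen.hom_ext_pullSect f _ _ fun U t => ?_)
  refine (congr($((Scheme.Modules.pullbackPushforwardAdjunction u).homEquiv_unit _ _ φ).app (f ⁻¹ᵁ U)
    (OmegaSh.pullSect f M U t))).trans (Eq.trans ?_
    (congr($((Scheme.Modules.pullbackPushforwardAdjunction u).homEquiv_unit _ _ φ').app (f ⁻¹ᵁ U)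
    (OmegaSh.pullSect f M U t))).symm)
  show φ.app (u ⁻¹ᵁ (f ⁻¹ᵁ U)) (OmegaSh.pullSect u _ _ (PrinPart.grSect f 1 U t)) =
    φ'.app (u ⁻¹ᵁ (f ⁻¹ᵁ U)) (OmegaSh.pullSect u _ _ (OmegaSh.pullSect f M U t))
  have hle : u ⁻¹ᵁ (f ⁻¹ᵁ U) ≤ f' ⁻¹ᵁ (v ⁻¹ᵁ U) := by
    rw [← Scheme.Hom.comp_preimage, hw, Scheme.Hom.comp_preimage]
  have hs : OmegaSh.idealSect (f'.ker ^ 1) (v ⁻¹ᵁ U) (θ.app (v ⁻¹ᵁ U) (OmegaSh.pullSect v M U t)) =
      v.app U (OmegaSh.idealSect (f.ker ^ 1) U t) := by
    show (θ ≫ ClSub.idealModι (f'.ker ^ 1)).app (v ⁻¹ᵁ U) (OmegaSh.pullSect v M U t) = _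
    rw [hθ]
    refine (congrArg ((ParaLocal.pullUnit v).hom.app (v ⁻¹ᵁ U))
      (pullback_map_pullSect v (ClSub.idealModι (f.ker ^ 1)) U t)).trans ?_
    exact pullUnit_pullSect v U _
  have hl := hφ.2 U t _ hs (u ⁻¹ᵁ (f ⁻¹ᵁ U)) le_rfl hle
  rw [show (homOfLE (le_refl (u ⁻¹ᵁ (f ⁻¹ᵁ U)))).op = 𝟙 _ from rfl, CategoryTheory.Functor.map_id] at hl
  refine hl.trans ?_
  show _ = ((Scheme.Modules.pullback f').map θ).app _ (((Scheme.Modules.pullbackComp f' v).inv.app M).app _
    (((Scheme.Modules.pullbackCongr hw).hom.app M).app _ (((Scheme.Modules.pullbackComp u f).hom.app M).app _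
      (OmegaSh.pullSect u _ _ (OmegaSh.pullSect f M U t)))))
  rw [pullbackComp_hom_pullSect u f M U t]
  erw [pullbackCongr_pullSect hw M U t hle]
  have nat : ∀ {A B : Y'.Modules} (c : A ⟶ B) (x : Γ(A, f' ⁻¹ᵁ (v ⁻¹ᵁ U))),
      c.app (u ⁻¹ᵁ (f ⁻¹ᵁ U)) (A.presheaf.map (homOfLE hle).op x) =
        B.presheaf.map (homOfLE hle).op (c.app (f' ⁻¹ᵁ (v ⁻¹ᵁ U)) x) :=
    fun c x => congr($((Scheme.Modules.Hom.mapPresheaf c).naturality (homOfLE hle).op) x)
  erw [nat ((Scheme.Modules.pullbackComp f' v).inv.app M) (OmegaSh.pullSect (f' ≫ v) M U t)]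
  erw [nat ((Scheme.Modules.pullback f').map θ)]
  refine congrArg _ ?_
  erw [pullbackComp_inv_pullSect f' v M U t]
  exact (pullback_map_pullSect f' θ (v ⁻¹ᵁ U) (OmegaSh.pullSect v M U t)).symm


end GrothLib.GrBC
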